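import Cfsg.Agent.Lib.Zorn.Conj

/-!
The centralizer of the standard involution of `G2` is an image of pairs of matrices with equal determinant.
-/

set_option autoImplicit false

namespace CfsgLib.Zorn

open Matrix

local infixl:70 " ⋆ " => zm

variable (F : Type*) [Field F]

/-- Pairs of invertible matrices with equal determinant. -/
def eqDet : Subgroup (GL (Fin 2) F × GL (Fin 2) F) where
  carrier := {p | Matrix.GeneralLinearGroup.det p.1 = Matrix.GeneralLinearGroup.det p.2}
  one_mem' := rfl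
  mul_mem' := fun {a b} ha hb => by
    simp only [Set.mem_ofPred_eq, Prod.fst_mul, Prod.snd_mul, map_mul] at *
    rw [ha, hb]
  inv_mem' := fun {a} ha => by
    simp only [Set.mem_ofPred_eq, Prod.fst_inv, Prod.snd_inv, map_inv] at *
    rw [ha]

variable {F}

local notation "M2" => Matrix (Fin 2) (Fin 2) F

theorem adj_units (A : GL (Fin 2) F) :
    (A : M2).adjugate = (A : M2).det • ((A⁻¹ : GL (Fin 2) F) : M2) := by
  calc (A : M2).adjugate = ((A⁻¹ : GL (Fin 2) F) : M2) * ((A : M2) * (A : M2).adjugate) := by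
        rw [← Matrix.mul_assoc, ← Units.val_mul, inv_mul_cancel, Units.val_one, Matrix.one_mul]
    _ = _ := by rw [Matrix.mul_adjugate, Matrix.mul_smul, Matrix.mul_one]

theorem det_units_inv (A : GL (Fin 2) F) :
    (A : M2).det * ((A⁻¹ : GL (Fin 2) F) : M2).det = 1 := by
  rw [← Matrix.det_mul, ← Units.val_mul, mul_inv_cancel, Units.val_one, Matrix.det_one]

/-- The automorphism of a pair. -/
def pairLin (p : GL (Fin 2) F × GL (Fin 2) F) : (Fin 8 → F) →ₗ[F] (Fin 8 → F) where
  toFun x := dbl ((p.1 : M2) * hc x * ((p.1⁻¹ : GL (Fin 2) F) : M2)) ((p.2 : M2) * kc x * ((p.1⁻¹ : GL (Fin 2) F) : M2))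
  map_add' x y := by
    have e1 : hc (x + y) = hc x + hc y := by ext i j; fin_cases i <;> fin_cases j <;> simp [hc]
    have e2 : kc (x + y) = kc x + kc y := by ext i j; fin_cases i <;> fin_cases j <;> simp [kc]; ring
    rw [e1, e2, Matrix.mul_add, Matrix.mul_add, Matrix.add_mul, Matrix.add_mul, dbl_add]
  map_smul' c x := by
    have e1 : hc (c • x) = c • hc x := by ext i j; fin_cases i <;> fin_cases j <;> simp [hc]
    have e2 : kc (c • x) = c • kc x := by ext i j; fin_cases i <;> fin_cases j <;> simp [kc]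
    rw [e1, e2, Matrix.mul_smul, Matrix.mul_smul, Matrix.smul_mul, Matrix.smul_mul, dbl_smul, RingHom.id_apply]

theorem pairLin_dbl (p : GL (Fin 2) F × GL (Fin 2) F) (h k : M2) :
    pairLin p (dbl h k) = dbl ((p.1 : M2) * h * ((p.1⁻¹ : GL (Fin 2) F) : M2))
      ((p.2 : M2) * k * ((p.1⁻¹ : GL (Fin 2) F) : M2)) := by
  show dbl _ _ = _
  rw [hc_dbl, kc_dbl]

theorem pairLin_mul (p q : GL (Fin 2) F × GL (Fin 2) F) (x : Fin 8 → F) :
    pairLin (p * q) x = pairLin p (pairLin q x) := by
  rw [← dbl_hc_kc x, pairLin_dbl, pairLin_dbl, pairLin_dbl, Prod.fst_mul, Prod.snd_mul, _root_.mul_inv_rev]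
  simp only [Units.val_mul, Matrix.mul_assoc]

theorem pairLin_one (x : Fin 8 → F) : pairLin (1 : GL (Fin 2) F × GL (Fin 2) F) x = x := by
  rw [← dbl_hc_kc x, pairLin_dbl]
  simp

theorem pairLin_zm {p : GL (Fin 2) F × GL (Fin 2) F} (hp : p ∈ eqDet F) (x y : Fin 8 → F) :
    pairLin p (x ⋆ y) = pairLin p x ⋆ pairLin p y := by
  rw [← dbl_hc_kc x, ← dbl_hc_kc y, dbl_mul, pairLin_dbl, pairLin_dbl, pairLin_dbl, dbl_mul]
  have hd : (p.1 : M2).det = (p.2 : M2).det := congrArg Units.val hp
  set A := (p.1 : M2)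
  set Ai := ((p.1⁻¹ : GL (Fin 2) F) : M2)
  set B := (p.2 : M2)
  set Bi := ((p.2⁻¹ : GL (Fin 2) F) : M2)
  have hAi : Ai * A = 1 := by rw [← Units.val_mul, inv_mul_cancel, Units.val_one]
  have hBi : Bi * B = 1 := by rw [← Units.val_mul, inv_mul_cancel, Units.val_one]
  have hadjA : Ai.adjugate = Ai.det • A := by
    have := adj_units (p.1⁻¹)
    rwa [inv_inv] at this
  have hadjA' : A.adjugate = A.det • Ai := adj_units p.1
  have hadjB : B.adjugate = B.det • Bi := adj_units p.2
  have hAA : A.det * Ai.det = 1 := det_units_inv p.1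
  have hconj : ∀ h : M2, (A * h * Ai).adjugate = A * h.adjugate * Ai := fun h => by
    rw [Matrix.adjugate_mul_distrib, Matrix.adjugate_mul_distrib, hadjA, hadjA', Matrix.mul_smul,
      Matrix.smul_mul, Matrix.mul_smul, smul_smul, mul_comm _ A.det, ← Matrix.mul_assoc, mul_comm A.det,
      mul_comm Ai.det, hAA, one_smul]
  have hAA' : Ai.det * A.det = 1 := by rw [mul_comm]; exact hAA
  have hBk : ∀ k : M2, (B * k * Ai).adjugate * B = A * k.adjugate := fun k => by
    rw [Matrix.adjugate_mul_distrib, Matrix.adjugate_mul_distrib, hadjA, hadjB, ← hd]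
    simp only [Matrix.mul_smul, Matrix.smul_mul, smul_smul, hAA, hAA', one_smul, Matrix.mul_assoc, hBi,
      Matrix.mul_one]
  congr 1
  · rw [show A * hc x * Ai * (A * hc y * Ai) = A * hc x * (Ai * A) * hc y * Ai by simp only [Matrix.mul_assoc],
      hAi, ← Matrix.mul_assoc ((B * kc y * Ai).adjugate), ← Matrix.mul_assoc ((B * kc y * Ai).adjugate), hBk]
    simp only [Matrix.mul_sub, Matrix.sub_mul, Matrix.mul_one, Matrix.mul_assoc]
  · rw [hconj, show B * kc y * Ai * (A * hc x * Ai) = B * kc y * (Ai * A) * hc x * Ai by simp only [Matrix.mul_assoc],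
      show B * kc x * Ai * (A * (hc y).adjugate * Ai) = B * kc x * (Ai * A) * (hc y).adjugate * Ai by simp only [Matrix.mul_assoc],
      hAi]
    simp only [Matrix.mul_add, Matrix.add_mul, Matrix.mul_one, Matrix.mul_assoc]

theorem pairLin_injective (p : GL (Fin 2) F × GL (Fin 2) F) : Function.Injective (pairLin p) := by
  intro x y h
  have := congrArg (pairLin p⁻¹) h
  rwa [← pairLin_mul, ← pairLin_mul, inv_mul_cancel, pairLin_one, pairLin_one] at this

/-- The element of a pair. -/
noncomputable def pairG2 (p : ↥(eqDet F)) : GL (Fin 8) F :=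
  Classical.choose (exists_mem_G2 (pairLin p.1) (pairLin_injective p.1) (pairLin_zm p.2))

theorem pairG2_mem (p : ↥(eqDet F)) : pairG2 p ∈ Cfsg.Lie.G2 F :=
  (Classical.choose_spec (exists_mem_G2 (pairLin p.1) (pairLin_injective p.1) (pairLin_zm p.2))).1

theorem app_pairG2 (p : ↥(eqDet F)) (x : Fin 8 → F) : app (pairG2 p) x = pairLin p.1 x :=
  (Classical.choose_spec (exists_mem_G2 (pairLin p.1) (pairLin_injective p.1) (pairLin_zm p.2))).2 x

variable (F) in
/-- The pairs as automorphisms. -/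
noncomputable def pairHom : ↥(eqDet F) →* ↥(Cfsg.Lie.G2 F) where
  toFun p := ⟨pairG2 p, pairG2_mem p⟩
  map_one' := Subtype.ext (eq_of_app fun x => by
    rw [app_pairG2, OneMemClass.coe_one, OneMemClass.coe_one, pairLin_one, app_one])
  map_mul' p q := Subtype.ext (eq_of_app fun x => by
    show app (pairG2 (p * q)) x = app (pairG2 p * pairG2 q) x
    rw [app_mul, app_pairG2, app_pairG2, app_pairG2, Subgroup.coe_mul, pairLin_mul])

theorem pairHom_commute (p : ↥(eqDet F)) :
    pairG2 p * sigma0 F = sigma0 F * pairG2 p := by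
  refine eq_of_app fun x => ?_
  rw [app_mul, app_mul, app_pairG2, app_pairG2, ← dbl_hc_kc x, app_sigma0, pairLin_dbl, pairLin_dbl, app_sigma0]
  simp

theorem pairG2_scalar (p : ↥(eqDet F)) (c : F) (h1 : (p.1.1 : M2) = c • 1) (h2 : (p.1.2 : M2) = c • 1) :
    pairG2 p = 1 := by
  refine eq_of_app fun x => ?_
  rw [app_pairG2, app_one, ← dbl_hc_kc x, pairLin_dbl]
  have h : c • ((p.1.1⁻¹ : GL (Fin 2) F) : M2) = 1 := by
    have := congrArg Units.val (mul_inv_cancel p.1.1)
    rwa [Units.val_mul, Units.val_one, h1, Matrix.smul_mul, Matrix.one_mul] at this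
  simp only [h1, h2, Matrix.smul_mul, Matrix.one_mul, ← Matrix.mul_smul, h, Matrix.mul_one]

/-- The centralizer of the standard involution consists of pairs. -/
theorem exists_pair (h2 : (2 : F) ≠ 0) {g : GL (Fin 8) F} (hg : g ∈ Cfsg.Lie.G2 F)
    (hc0 : g * sigma0 F = sigma0 F * g) : ∃ p : ↥(eqDet F), pairG2 p = g := by
  have hz : ∀ m : M2, -m = m → m = 0 := fun m hm => by
    have e : (2 : F) • m = 0 := by rw [two_smul]; nth_rewrite 1 [← hm]; exact neg_add_cancel m
    exact (smul_eq_zero.1 e).resolve_left h2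
  have hcomm : ∀ x, app (sigma0 F) (app g x) = app g (app (sigma0 F) x) := fun x => by
    rw [← app_mul, ← app_mul, hc0]
  let L : M2 → M2 := fun h => hc (app g (dbl h 0))
  have hL : ∀ h, app g (dbl h 0) = dbl (L h) 0 := by
    intro h
    have := hcomm (dbl h 0)
    rw [app_sigma0, neg_zero, ← dbl_hc_kc (app g (dbl h 0)), app_sigma0] at this
    have hk : kc (app g (dbl h 0)) = 0 := hz _ (by simpa [kc_dbl] using congrArg kc this)
    conv_lhs => rw [← dbl_hc_kc (app g (dbl h 0)), hk]
  have hLmul : ∀ h h', L (h * h') = L h * L h' := by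
    intro h h'
    have : dbl (L (h * h')) 0 = dbl (L h * L h') (0 : M2) := by
      rw [← hL, show dbl (h * h') (0 : M2) = dbl h 0 ⋆ dbl h' 0 by rw [dbl_mul]; simp,
        mem_G2_iff.1 hg, hL, hL, dbl_mul]
      simp
    simpa [hc_dbl] using congrArg hc this
  have hLadd : ∀ h h', L (h + h') = L h + L h' := by
    intro h h'
    show hc _ = _
    rw [show dbl (h + h') (0 : M2) = dbl h 0 + dbl h' 0 by rw [← dbl_add, add_zero], app_add, hL, hL, ← dbl_add,
      hc_dbl]
  have hLsmul : ∀ (c : F) h, L (c • h) = c • L h := by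
    intro c h
    show hc _ = _
    rw [show dbl (c • h) (0 : M2) = c • dbl h 0 by rw [← dbl_smul, smul_zero], app_smul, hL, ← dbl_smul, hc_dbl]
  set E : Fin 2 → Fin 2 → M2 := fun a b => Matrix.single a b 1 with hE
  have hEE : ∀ a b c d, E a b * E c d = if b = c then E a d else 0 := by
    intro a b c d
    split_ifs with h
    · subst h; simp [hE]
    · simp [hE, h]
  have hL0 : L 0 = 0 := by simpa using hLsmul 0 0
  have hE00 : L (E 0 0) ≠ 0 := fun h0 => by
    have : app g (dbl (E 0 0) 0) = app g 0 := by rw [hL, h0]; simp [app]; funext i; fin_cases i <;> simp [dbl]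
    have := congrArg hc (app_injective g this)
    rw [hc_dbl] at this
    have e : (1 : F) = hc (0 : Fin 8 → F) 0 0 := by simpa [hE] using congrFun (congrFun this 0) 0
    simp [hc] at e
  obtain ⟨j, hj⟩ : ∃ j, L (E 0 0) *ᵥ Pi.single j 1 ≠ 0 := by
    by_contra hno
    push Not at hno
    exact hE00 (Matrix.ext fun i j => by simpa using congrFun (hno j) i)
  set u := L (E 0 0) *ᵥ Pi.single j 1 with hu
  set w := L (E 1 0) *ᵥ u with hw
  have hmu : ∀ a b, L (E a b) *ᵥ u = if b = 0 then L (E a 0) *ᵥ Pi.single j 1 else 0 := by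
    intro a b
    rw [hu, Matrix.mulVec_mulVec, ← hLmul, hEE]
    split_ifs
    · rfl
    · rw [hL0, Matrix.zero_mulVec]
  have hmw : ∀ a b, L (E a b) *ᵥ w = if b = 1 then L (E a 0) *ᵥ u else 0 := by
    intro a b
    rw [hw, Matrix.mulVec_mulVec, ← hLmul, hEE]
    split_ifs
    · rfl
    · rw [hL0, Matrix.zero_mulVec]
  have hdec : ∀ h : M2, h = h 0 0 • E 0 0 + h 0 1 • E 0 1 + h 1 0 • E 1 0 + h 1 1 • E 1 1 := by
    intro h; ext i k; fin_cases i <;> fin_cases k <;> simp [hE, Matrix.single]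
  set A0 : M2 := !![u 0, w 0; u 1, w 1] with hA0
  have h00 : L (E 0 0) *ᵥ u = u := by rw [hmu, if_pos rfl]
  have h10 : L (E 1 0) *ᵥ u = w := rfl
  have hw0 : L (E 1 0) *ᵥ Pi.single j 1 = w := by rw [hw, hmu, if_pos rfl]
  have hLA : ∀ h, L h * A0 = A0 * h := by
    intro h
    have c1 : L h *ᵥ u = h 0 0 • u + h 1 0 • w := by
      conv_lhs => rw [hdec h, hLadd, hLadd, hLadd, hLsmul, hLsmul, hLsmul, hLsmul, Matrix.add_mulVec,
        Matrix.add_mulVec, Matrix.add_mulVec, Matrix.smul_mulVec, Matrix.smul_mulVec,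
        Matrix.smul_mulVec, Matrix.smul_mulVec, h00, h10, hmu, hmu]
      simp
    have c2 : L h *ᵥ w = h 0 1 • u + h 1 1 • w := by
      conv_lhs => rw [hdec h, hLadd, hLadd, hLadd, hLsmul, hLsmul, hLsmul, hLsmul, Matrix.add_mulVec,
        Matrix.add_mulVec, Matrix.add_mulVec, Matrix.smul_mulVec, Matrix.smul_mulVec,
        Matrix.smul_mulVec, Matrix.smul_mulVec, hmw, hmw, hmw, hmw, if_neg (by decide), if_pos rfl,
        if_neg (by decide), if_pos rfl, h00, h10]
      simp
    ext i k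
    have d1 := congrFun c1 i
    have d2 := congrFun c2 i
    fin_cases i <;> fin_cases k <;>
      simp [hA0, Matrix.mul_apply, Fin.sum_univ_two, Matrix.mulVec, dotProduct] at d1 d2 ⊢ <;>
      first
        | linear_combination d1
        | linear_combination d2
  have hA : IsUnit A0 := by
    rw [← Matrix.mulVec_injective_iff_isUnit]
    intro x y h
    have hd : A0 *ᵥ (x - y) = 0 := by rw [Matrix.mulVec_sub, h, sub_self]
    have e : (x - y) 0 • u + (x - y) 1 • w = 0 := by
      rw [← hd]; funext i; fin_cases i <;> simp [hA0, Matrix.mulVec, dotProduct, Fin.sum_univ_two] <;> ring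
    have e0 := congrArg (fun v => L (E 0 0) *ᵥ v) e
    simp only [Matrix.mulVec_add, Matrix.mulVec_smul, h00, hmw, Matrix.mulVec_zero] at e0
    simp at e0
    have x0 : (x - y) 0 = 0 := by
      rcases e0 with e0 | e0
      · simpa using e0
      · exact absurd e0 hj
    rw [x0, zero_smul, zero_add] at e
    have hwne : w ≠ 0 := by
      intro h0
      have := hmw 0 1
      rw [if_pos rfl, h00, h0, Matrix.mulVec_zero] at this
      exact hj this.symm
    have x1 := (smul_eq_zero.1 e).resolve_right hwne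
    funext i; fin_cases i
    · exact sub_eq_zero.1 x0
    · exact sub_eq_zero.1 x1
  set A := hA.unit
  have hLk : ∀ h, L h = (A : M2) * h * ((A⁻¹ : GL (Fin 2) F) : M2) := fun h => by
    show _ = A0 * h * _
    rw [← hLA, Matrix.mul_assoc, show A0 * ((A⁻¹ : GL (Fin 2) F) : M2) = 1 from
      congrArg Units.val (mul_inv_cancel A), Matrix.mul_one]
  set B0 := kc (app g (dbl 0 1)) with hB0
  have hB : app g (dbl 0 1) = dbl 0 B0 := by
    have := hcomm (dbl 0 1)
    rw [app_sigma0, show dbl (0 : M2) (-1) = (-1 : F) • dbl 0 1 by rw [← dbl_smul]; simp, app_smul,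
      ← dbl_hc_kc (app g (dbl 0 1)), app_sigma0, ← dbl_smul] at this
    have hh : hc (app g (dbl 0 1)) = 0 := by
      have := congrArg hc this
      rw [hc_dbl, hc_dbl, neg_one_smul] at this
      exact hz _ this.symm
    conv_lhs => rw [← dbl_hc_kc (app g (dbl 0 1)), hh]
  have hdet : B0.det = 1 := by
    have := (tr_nm_app hg (dbl (0 : M2) 1)).2
    rw [hB, nm_dbl, nm_dbl] at this
    simpa using this
  let B1 : GL (Fin 2) F := Matrix.GeneralLinearGroup.mkOfDetNeZero B0 (by rw [hdet]; exact one_ne_zero)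
  refine ⟨⟨(A, B1 * A), ?_⟩, eq_of_app fun x => ?_⟩
  · show Matrix.GeneralLinearGroup.det A = Matrix.GeneralLinearGroup.det (B1 * A)
    rw [map_mul, show Matrix.GeneralLinearGroup.det B1 = 1 from Units.ext hdet, one_mul]
  rw [app_pairG2, ← dbl_hc_kc x, pairLin_dbl]
  have hk : ∀ k, app g (dbl 0 k) = dbl 0 (B0 * L k) := by
    intro k
    rw [show dbl (0 : M2) k = dbl k 0 ⋆ dbl 0 1 by rw [dbl_mul]; simp, mem_G2_iff.1 hg, hL, hB, dbl_mul]
    simp
  conv_rhs => rw [show dbl (hc x) (kc x) = dbl (hc x) 0 + dbl 0 (kc x) by rw [← dbl_add, add_zero, zero_add],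
    app_add, hL, hk, ← dbl_add, add_zero, zero_add, hLk, hLk]
  show dbl _ (((B1 * A : GL (Fin 2) F) : M2) * _ * _) = _
  rw [Units.val_mul]
  simp only [Matrix.mul_assoc]
  rfl

end CfsgLib.Zorn
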