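import Cfsg.Agent.Lib.Fusion.GLTwoSylow

/-!
Squares in a Sylow 2-subgroup of `GL₂(q)` are determinants times commutators with the part of determinant one.
-/

set_option autoImplicit false

namespace CfsgLib.Zorn

open Matrix CfsgLib.GLTwoSylow

variable {F : Type*} [Field F] [Fintype F]

local notation "GL2" => GL (Fin 2) F
local notation "M2" => Matrix (Fin 2) (Fin 2) F

/-- The part of determinant one of a subgroup. -/
def detOne (S : Subgroup GL2) : Subgroup GL2 := S ⊓ (Matrix.GeneralLinearGroup.det : GL2 →* Fˣ).ker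

/-- The property of squares. -/
def SquareProp (S : Subgroup GL2) : Prop :=
  ∀ a ∈ S, ∃ k ∈ ⁅S, detOne S⁆, ((a * a : GL2) : M2) = (a : M2).det • (k : M2)

theorem comm_mem {S : Subgroup GL2} {a w : GL2} (ha : a ∈ S) (hw : w ∈ S)
    (hd : (w : M2).det = 1) : a * w * a⁻¹ * w⁻¹ ∈ ⁅S, detOne S⁆ :=
  Subgroup.commutator_mem_commutator ha ⟨hw, Units.ext hd⟩

theorem eq_neg_one {M : M2} (h2 : (2 : F) ≠ 0) (h : M * M = 1) (hd : M.det = 1) (hne : M ≠ 1) : M = -1 := by
  have h00 : M 0 0 * M 0 0 + M 0 1 * M 1 0 = 1 := by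
    simpa [Matrix.mul_apply, Fin.sum_univ_two] using congrFun (congrFun h 0) 0
  have h01 : M 0 0 * M 0 1 + M 0 1 * M 1 1 = 0 := by
    simpa [Matrix.mul_apply, Fin.sum_univ_two] using congrFun (congrFun h 0) 1
  have h10 : M 1 0 * M 0 0 + M 1 1 * M 1 0 = 0 := by
    simpa [Matrix.mul_apply, Fin.sum_univ_two] using congrFun (congrFun h 1) 0
  have h11 : M 1 0 * M 0 1 + M 1 1 * M 1 1 = 1 := by
    simpa [Matrix.mul_apply, Fin.sum_univ_two] using congrFun (congrFun h 1) 1
  rw [Matrix.det_fin_two] at hd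
  have hT : M 0 0 * (M 0 0 + M 1 1) = 2 := by linear_combination h00 + hd
  have hs : M 0 0 + M 1 1 ≠ 0 := fun e => h2 (by rw [← hT, e, mul_zero])
  have b0 : M 0 1 = 0 := (mul_eq_zero.1 (show M 0 1 * (M 0 0 + M 1 1) = 0 by linear_combination h01)).resolve_right hs
  have c0 : M 1 0 = 0 := (mul_eq_zero.1 (show M 1 0 * (M 0 0 + M 1 1) = 0 by linear_combination h10)).resolve_right hs
  rw [b0] at h00 hd h11
  have hsq : (M 0 0 - 1) * (M 0 0 + 1) = 0 := by linear_combination h00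
  rcases mul_eq_zero.1 hsq with e | e
  · exfalso; apply hne
    have a1 : M 0 0 = 1 := sub_eq_zero.1 e
    have d1 : M 1 1 = 1 := by rw [a1] at hd; linear_combination hd
    ext i j; fin_cases i <;> fin_cases j <;> simp [a1, b0, c0, d1]
  · have a1 : M 0 0 = -1 := eq_neg_of_add_eq_zero_left e
    have d1 : M 1 1 = -1 := by rw [a1] at hd; linear_combination -hd
    ext i j; fin_cases i <;> fin_cases j <;> simp [a1, b0, c0, d1]

theorem squareProp_three (h4 : Fintype.card F % 4 = 3) : ∃ U : Sylow 2 GL2, SquareProp (U : Subgroup GL2) := by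
  classical
  haveI : Fact (Nat.Prime 2) := ⟨Nat.prime_two⟩
  obtain ⟨U, hU⟩ := exists_quasiDihedral h4
  refine ⟨U, ?_⟩
  set S := (U : Subgroup GL2)
  obtain ⟨n, hn, hcard, x, y, hx, hy, hyx⟩ := hU
  have hy1 : y * y = 1 := by
    have := pow_orderOf_eq_one y
    rwa [hy, pow_two] at this
  have h2 : (2 : F) ≠ 0 := fun h => by
    have hc : CharP F 2 := CharTwo.of_one_ne_zero_of_two_eq_zero one_ne_zero h
    obtain ⟨k, -, hk⟩ := FiniteField.card F 2
    have : 2 ∣ Fintype.card F := hk ▸ dvd_pow_self 2 k.ne_zero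
    omega
  have hdetpm : ∀ a ∈ S, (a : M2).det = 1 ∨ (a : M2).det = -1 := by
    intro a ha
    obtain ⟨m, hm⟩ := U.2 ⟨a, ha⟩
    set d := Matrix.GeneralLinearGroup.det a with hd
    have hd1 : d ^ 2 ^ m = 1 := by
      rw [hd, ← map_pow]
      have := congrArg Subtype.val hm
      simp at this
      rw [this, map_one]
    have hd2 : d ^ (Fintype.card F - 1) = 1 := by rw [← Fintype.card_units]; exact pow_card_eq_one
    have hg : Nat.gcd (2 ^ m) (Fintype.card F - 1) ∣ 2 := by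
      obtain ⟨t, ht, ht2⟩ : ∃ t, Fintype.card F - 1 = 2 * t ∧ Odd t :=
        ⟨(Fintype.card F - 1) / 2, by omega, Nat.odd_iff.2 (by omega)⟩
      rw [ht, Nat.Coprime.gcd_mul_right_cancel_right 2 ((Nat.coprime_two_right.2 ht2).pow_right m)]
      exact Nat.gcd_dvd_right _ _
    have hd3 : d ^ 2 = 1 := by
      obtain ⟨k, hk⟩ := hg
      rw [hk, pow_mul, pow_gcd_eq_one.mpr ⟨hd1, hd2⟩, one_pow]
    have e : ((a : M2).det - 1) * ((a : M2).det + 1) = 0 := by
      have := congrArg Units.val hd3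
      rw [Units.val_pow_eq_pow_val, Units.val_one] at this
      have e2 : (d : F) = (a : M2).det := rfl
      rw [e2] at this
      linear_combination this
    rcases mul_eq_zero.1 e with e | e
    · exact Or.inl (sub_eq_zero.1 e)
    · exact Or.inr (eq_neg_of_add_eq_zero_left e)
  have hN : 2 ^ n = 2 * 2 ^ (n - 1) := by rw [← pow_succ', Nat.sub_add_cancel (by omega : 1 ≤ n)]
  have hN1 : 2 ^ (n - 1) = 2 * 2 ^ (n - 2) := by rw [← pow_succ']; congr 1; omega
  have hN2 : 2 ≤ 2 ^ (n - 2) := Nat.le_self_pow (by omega) 2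
  have hynx : y ∉ Subgroup.zpowers x := by
    intro h
    obtain ⟨i, hi⟩ := h
    have e : y * x * y⁻¹ = x := by rw [← hi]; group
    have e2 : x ^ (2 ^ (n - 1) - 1) = x ^ 1 := by rw [pow_one, ← hyx, e]
    have := pow_injOn_Iio_orderOf (x := x) (by rw [hx]; simp; omega) (by rw [hx]; simp; omega) e2
    omega
  have hidx : (Subgroup.zpowers x).index = 2 := by
    have := (Subgroup.zpowers x).card_mul_index
    rw [Nat.card_zpowers, hx, hcard, pow_succ] at this
    exact Nat.eq_of_mul_eq_mul_left (by positivity) this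
  have hdec : ∀ a : ↥S, ∃ i : ℤ, a = x ^ i ∨ a = x ^ i * y := by
    intro a
    by_cases h : a ∈ Subgroup.zpowers x
    · obtain ⟨i, hi⟩ := h; exact ⟨i, Or.inl hi.symm⟩
    · have : a * y⁻¹ ∈ Subgroup.zpowers x := by
        rw [Subgroup.mul_mem_iff_of_index_two hidx, inv_mem_iff]
        exact iff_of_false h hynx
      obtain ⟨i, hi⟩ := this
      exact ⟨i, Or.inr (by rw [show x ^ i = a * y⁻¹ from hi, inv_mul_cancel_right])⟩
  have hyd : ((y : GL2) : M2).det = -1 := by
    rcases hdetpm y y.2 with h | h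
    · exfalso
      have hyM : ((y : GL2) : M2) = -1 := eq_neg_one h2
        (by simpa using congrArg (fun z : ↥S => ((z : GL2) : M2)) hy1) h
        (fun e => by
          have : y = 1 := Subtype.ext (Units.ext e)
          rw [this, orderOf_one] at hy; omega)
      apply hynx
      have e : y * x * y⁻¹ = x := by
        refine mul_inv_eq_of_eq_mul (Subtype.ext (Units.ext ?_))
        simp [hyM]
      have e2 : x ^ (2 ^ (n - 1) - 1) = x ^ 1 := by rw [pow_one, ← hyx, e]
      have := pow_injOn_Iio_orderOf (x := x) (by rw [hx]; simp; omega) (by rw [hx]; simp; omega) e2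
      omega
    · exact h
  have hr : ((y * x * y⁻¹ * x⁻¹ : ↥S) : GL2) ∈ ⁅S, detOne S⁆ := by
    rcases hdetpm x x.2 with h | h
    · exact comm_mem y.2 x.2 h
    · have hxy : ((x : GL2) * (y : GL2) : M2).det = 1 := by
        rw [Matrix.det_mul, h, hyd]; ring
      have := comm_mem x.2 (S.mul_mem x.2 y.2) (by rw [Units.val_mul]; exact hxy)
      have e : ((y * x * y⁻¹ * x⁻¹ : ↥S) : GL2) =
          ((x : GL2) * ((x : GL2) * y) * (x : GL2)⁻¹ * ((x : GL2) * y)⁻¹)⁻¹ := by
        have hc : ∀ k : ℕ, Commute x (x ^ k) := fun k => (Commute.refl x).pow_right k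
        have e1 : x * (y * x * y⁻¹ * x⁻¹) * x⁻¹ = y * x * y⁻¹ * x⁻¹ := by
          rw [hyx, ← mul_assoc, (hc _).eq, mul_inv_cancel_right]
        have e2 := congrArg (Subgroup.subtype S) e1
        simp at e2
        simp only [Subgroup.coe_mul, InvMemClass.coe_inv]
        rw [← e2]
        group
      rw [e]
      exact inv_mem this
  have hx2 : ((x * x : ↥S) : GL2) ∈ ⁅S, detOne S⁆ := by
    have e : y * x * y⁻¹ * x⁻¹ = (x * x) ^ (2 ^ (n - 2) - 1) := by
      rw [hyx, ← pow_two, ← pow_mul, show 2 * (2 ^ (n - 2) - 1) = 2 ^ (n - 1) - 1 - 1 by omega,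
        pow_sub (G := ↥S) x (show 1 ≤ 2 ^ (n - 1) - 1 by omega), pow_one]
    have hcop : Nat.Coprime (2 ^ (n - 2) - 1) (orderOf (x * x)) := by
      refine Nat.Coprime.coprime_dvd_right (m := 2 ^ n) ?_ (Nat.Coprime.pow_right n ?_)
      · rw [← hx, ← pow_two]; exact orderOf_pow_dvd 2
      · rw [Nat.coprime_two_right, Nat.odd_iff]
        have : 2 ∣ 2 ^ (n - 2) := dvd_pow_self 2 (by omega)
        omega
    obtain ⟨k, hk⟩ := exists_pow_eq_self_of_coprime hcop
    rw [← hk, ← e, Subgroup.coe_pow]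
    exact pow_mem hr k
  have hm : (-1 : GL2) ∈ ⁅S, detOne S⁆ := by
    have e : ((x : GL2) * x) ^ 2 ^ (n - 2) = -1 := by
      refine Units.ext (eq_neg_one h2 ?_ ?_ ?_)
      · rw [← Units.val_mul, ← pow_two, ← pow_mul, ← pow_two, ← pow_mul,
          show 2 * (2 ^ (n - 2) * 2) = 2 ^ n by omega, ← Subgroup.coe_pow, ← hx, pow_orderOf_eq_one]
        rfl
      · rw [Units.val_pow_eq_pow_val, Units.val_mul, Matrix.det_pow, Matrix.det_mul]
        rcases hdetpm x x.2 with h | h <;> simp [h]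
      · intro e
        have : x ^ (2 * 2 ^ (n - 2)) = x ^ 0 := by
          rw [pow_zero, pow_mul, pow_two]
          exact Subtype.ext (by rw [Subgroup.coe_pow, Subgroup.coe_mul]; exact Units.ext e)
        have := pow_injOn_Iio_orderOf (x := x) (by rw [hx]; simp; omega) (by rw [hx]; simp) this
        omega
    rw [← e]
    exact pow_mem (by simpa using hx2) _
  intro a ha
  have hsq : ((⟨a, ha⟩ * ⟨a, ha⟩ : ↥S) : GL2) ∈ ⁅S, detOne S⁆ := by
    obtain ⟨i, hi | hi⟩ := hdec ⟨a, ha⟩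
    · rw [hi, ← (Commute.refl x).mul_zpow, Subgroup.coe_zpow]
      exact zpow_mem hx2 i
    · have hyi : y⁻¹ = y := inv_eq_of_mul_eq_one_right hy1
      have : x ^ i * y * (x ^ i * y) = (x * x) ^ ((2 ^ (n - 2) : ℕ) * i : ℤ) := by
        calc x ^ i * y * (x ^ i * y) = x ^ i * (y * x ^ i * y⁻¹) := by rw [hyi]; group
          _ = x ^ i * (y * x * y⁻¹) ^ i := by rw [conj_zpow]
          _ = x ^ i * x ^ (((2 ^ (n - 1) - 1 : ℕ) : ℤ) * i) := by rw [hyx, _root_.zpow_mul, zpow_natCast]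
          _ = _ := by
            rw [← _root_.zpow_add, ← pow_two, ← zpow_natCast x 2, ← _root_.zpow_mul]
            congr 1
            rw [Nat.cast_sub (by omega : 1 ≤ 2 ^ (n - 1)), hN1]
            push_cast; ring
      rw [hi, this, Subgroup.coe_zpow]
      exact zpow_mem hx2 _
  rcases hdetpm a ha with h | h
  · exact ⟨a * a, by simpa using hsq, by rw [h, one_smul]⟩
  · refine ⟨(-1) * (a * a), mul_mem hm (by simpa using hsq), ?_⟩
    rw [h]
    simp

/-- Diagonal matrices. -/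
def diagHom (F : Type*) [Field F] : Fˣ × Fˣ →* GL (Fin 2) F where
  toFun p := ⟨!![(p.1 : F), 0; 0, p.2], !![((p.1⁻¹ : Fˣ) : F), 0; 0, ((p.2⁻¹ : Fˣ) : F)],
    by ext i j; fin_cases i <;> fin_cases j <;> simp [Matrix.mul_apply, Fin.sum_univ_two],
    by ext i j; fin_cases i <;> fin_cases j <;> simp [Matrix.mul_apply, Fin.sum_univ_two]⟩
  map_one' := by ext i j; fin_cases i <;> fin_cases j <;> simp
  map_mul' p p' := by
    ext i j; fin_cases i <;> fin_cases j <;> simp [Matrix.mul_apply, Fin.sum_univ_two]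

omit [Fintype F] in
theorem diagHom_val (a b : Fˣ) : ((diagHom F (a, b) : GL2) : M2) = !![(a : F), 0; 0, b] := rfl

omit [Fintype F] in
theorem diagHom_injective : Function.Injective (diagHom F) := by
  rintro ⟨a, b⟩ ⟨a', b'⟩ h
  have h0 := congrArg (fun m : GL2 => (m : M2) 0 0) h
  have h1 := congrArg (fun m : GL2 => (m : M2) 1 1) h
  simp [diagHom_val] at h0 h1
  exact Prod.ext (Units.ext h0) (Units.ext h1)

/-- The coordinate swap. -/
def swapW (F : Type*) [Field F] : GL (Fin 2) F :=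
  ⟨!![0, 1; 1, 0], !![0, 1; 1, 0],
    by ext i j; fin_cases i <;> fin_cases j <;> simp [Matrix.mul_apply, Fin.sum_univ_two],
    by ext i j; fin_cases i <;> fin_cases j <;> simp [Matrix.mul_apply, Fin.sum_univ_two]⟩

omit [Fintype F] in
theorem swapW_val : ((swapW F : GL2) : M2) = !![0, 1; 1, 0] := rfl

omit [Fintype F] in
theorem swapW_sq : swapW F * swapW F = 1 := by
  apply Units.ext
  rw [Units.val_mul, swapW_val]
  ext i j; fin_cases i <;> fin_cases j <;> simp

omit [Fintype F] in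
theorem swapW_diag (a b : Fˣ) : swapW F * diagHom F (a, b) = diagHom F (b, a) * swapW F := by
  apply Units.ext
  rw [Units.val_mul, Units.val_mul, swapW_val, diagHom_val, diagHom_val]
  ext i j; fin_cases i <;> fin_cases j <;> simp

omit [Fintype F] in
theorem diag_comm_eq (a b : Fˣ) :
    diagHom F (a, b) * (diagHom F (1, -1) * swapW F) * (diagHom F (a, b))⁻¹ * (diagHom F (1, -1) * swapW F)⁻¹ =
      diagHom F (a * b⁻¹, b * a⁻¹) := by
  rw [mul_inv_eq_iff_eq_mul, mul_inv_eq_iff_eq_mul]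
  apply Units.ext
  simp only [Units.val_mul, swapW_val, diagHom_val]
  ext i j; fin_cases i <;> fin_cases j <;> simp <;> field_simp

set_option maxHeartbeats 1000000 in
theorem squareProp_one (h4 : Fintype.card F % 4 = 1) : ∃ U : Sylow 2 GL2, SquareProp (U : Subgroup GL2) := by
  classical
  haveI : Fact (Nat.Prime 2) := ⟨Nat.prime_two⟩
  set q := Fintype.card F
  have hq := Fintype.one_lt_card (α := F)
  obtain ⟨n, r, hr, hqr⟩ := Nat.exists_eq_pow_mul_and_not_dvd (show q - 1 ≠ 0 by omega) 2 (by norm_num)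
  have hn0 : n ≠ 0 := by
    rintro rfl
    rw [pow_zero, one_mul] at hqr
    omega
  obtain ⟨g, hg⟩ := IsCyclic.exists_ofOrder_eq_natCard (α := Fˣ)
  rw [Nat.card_units, Nat.card_eq_fintype_card] at hg
  let ζ : Fˣ := g ^ r
  have hζ : orderOf ζ = 2 ^ n := by
    rw [orderOf_pow, hg, hqr, Nat.gcd_eq_right (dvd_mul_left r _), Nat.mul_div_cancel _
      (Nat.pos_of_ne_zero fun h => hr (by rw [h]; exact dvd_zero 2))]
  have hm1 : (-1 : Fˣ) ∈ Subgroup.zpowers ζ := by
    refine ⟨((2 ^ (n - 1) : ℕ) : ℤ), ?_⟩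
    show ζ ^ ((2 ^ (n - 1) : ℕ) : ℤ) = -1
    rw [zpow_natCast]
    have e1 : (ζ ^ 2 ^ (n - 1)) ^ 2 = 1 := by
      rw [← pow_mul, ← pow_succ, Nat.sub_add_cancel (Nat.pos_of_ne_zero hn0), ← hζ, pow_orderOf_eq_one]
    have e2 : ζ ^ 2 ^ (n - 1) ≠ 1 := fun h => by
      have := Nat.le_of_dvd (pow_pos (by norm_num) _) (orderOf_dvd_of_pow_eq_one h)
      rw [hζ] at this
      exact absurd this (not_le.2 (Nat.pow_lt_pow_right (by norm_num) (by omega)))
    have e3 := congrArg Units.val e1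
    rw [Units.val_pow_eq_pow_val, Units.val_one, sq_eq_one_iff] at e3
    rcases e3 with e3 | e3
    · exact absurd (Units.ext e3) e2
    · exact Units.ext (by rw [e3]; simp)
  set f := diagHom F with hfdef
  have hf : Function.Injective f := diagHom_injective
  set w := swapW F with hwdef
  have hw2 : w * w = 1 := swapW_sq
  have hwf : ∀ a b : Fˣ, w * f (a, b) = f (b, a) * w := swapW_diag
  let D : Subgroup GL2 := ((Subgroup.zpowers ζ).prod (Subgroup.zpowers ζ)).map f
  have hwi : w⁻¹ = w := inv_eq_of_mul_eq_one_right hw2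
  have hwn : w ∈ Subgroup.normalizer (D : Set GL2) := by
    have key : ∀ a ∈ D, w * a * w⁻¹ ∈ D := by
      rintro _ ⟨⟨a, b⟩, ⟨ha, hb⟩, rfl⟩
      exact ⟨(b, a), ⟨hb, ha⟩, by rw [hwf, mul_inv_cancel_right]⟩
    refine Subgroup.mem_normalizer_iff.mpr fun a => ⟨key a, fun h => ?_⟩
    have := key _ h
    rw [hwi, show w * (w * a * w) * w = (w * w) * a * (w * w) by group, hw2, one_mul, mul_one] at this
    exact this
  have hwD : w ∉ D := by
    rintro ⟨⟨a, b⟩, -, h⟩
    have h0 := congrArg (fun m : GL2 => (m : M2) 0 0) h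
    simp [hfdef, hwdef, diagHom_val, swapW_val] at h0
  have hcard : Nat.card ↥(D ⊔ Subgroup.zpowers w) = 2 ^ (2 * n + 1) := by
    rw [card_double D (by rw [hw2]; exact one_mem D) hwn hwD, Subgroup.card_map_of_injective hf,
      Nat.card_congr (Subgroup.prodEquiv _ _).toEquiv, Nat.card_prod, Nat.card_zpowers, hζ, ← pow_add, ← pow_succ']
    congr 1
    omega
  obtain ⟨t, ht, ht2⟩ : ∃ t, q + 1 = 2 * t ∧ ¬ 2 ∣ t := ⟨(q + 1) / 2, by omega, by omega⟩
  have hfac : (Nat.card GL2).factorization 2 = 2 * n + 1 := by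
    rw [card_GL2, show q * ((q - 1) * (q - 1) * (q + 1)) = 2 ^ (2 * n + 1) * (q * r * r * t) by
      rw [hqr, ht, two_mul n, pow_succ, pow_add]; ring]
    refine factorization_two _ _ ?_
    simp only [Nat.prime_two.dvd_mul]
    omega
  refine ⟨Sylow.ofCard (D ⊔ Subgroup.zpowers w) (by rw [hcard, hfac]), ?_⟩
  show SquareProp (D ⊔ Subgroup.zpowers w)
  set S := D ⊔ Subgroup.zpowers w
  have hD : ∀ a b, a ∈ Subgroup.zpowers ζ → b ∈ Subgroup.zpowers ζ → f (a, b) ∈ S :=
    fun a b ha hb => Subgroup.mem_sup_left ⟨(a, b), ⟨ha, hb⟩, rfl⟩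
  set w0 := f (1, -1) * w with hw0
  have hw0S : w0 ∈ S := mul_mem (hD _ _ (one_mem _) hm1) (Subgroup.mem_sup_right (Subgroup.mem_zpowers w))
  have hw0d : (w0 : M2).det = 1 := by
    rw [hw0, Units.val_mul, Matrix.det_mul]
    simp [hfdef, hwdef, diagHom_val, swapW_val, Matrix.det_fin_two]
  have hkey : ∀ a b : Fˣ, a ∈ Subgroup.zpowers ζ → b ∈ Subgroup.zpowers ζ →
      f (a * b⁻¹, b * a⁻¹) ∈ ⁅S, detOne S⁆ := by
    intro a b ha hb
    have := comm_mem (hD a b ha hb) hw0S hw0d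
    rwa [hw0, diag_comm_eq] at this
  intro a ha
  have hmem : (∃ x ∈ D, a = x) ∨ (∃ x ∈ D, a = x * w) := by
    have ha' : (a : GL2) ∈ ((D ⊔ Subgroup.zpowers w : Subgroup GL2) : Set GL2) := ha
    rw [Subgroup.coe_mul_of_right_le_normalizer_left D _ (Subgroup.zpowers_le.mpr hwn)] at ha'
    obtain ⟨u, hu, v, ⟨k, rfl⟩, rfl⟩ := ha'
    rcases Int.even_or_odd' k with ⟨j, rfl | rfl⟩
    · left; exact ⟨u, hu, by simp [_root_.zpow_mul, zpow_two, pow_two, hw2]⟩
    · right; exact ⟨u, hu, by simp [_root_.zpow_add, _root_.zpow_mul, zpow_two, pow_two, hw2]⟩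
  rcases hmem with ⟨x, ⟨⟨u, v⟩, ⟨hu, hv⟩, rfl⟩, rfl⟩ | ⟨x, ⟨⟨u, v⟩, ⟨hu, hv⟩, rfl⟩, rfl⟩
  · refine ⟨_, hkey u v hu hv, ?_⟩
    simp only [Units.val_mul, hfdef, diagHom_val]
    ext i j
    fin_cases i <;> fin_cases j <;> simp [Matrix.det_fin_two] <;> field_simp
  · refine ⟨_, hkey (-1) 1 hm1 (one_mem _), ?_⟩
    simp only [Units.val_mul, hfdef, hwdef, diagHom_val, swapW_val]
    ext i j
    fin_cases i <;> fin_cases j <;> simp [Matrix.det_fin_two] <;> ring

end CfsgLib.Zorn
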