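import Cfsg.Agent.Lib.Zorn.Cent
import Cfsg.Agent.Lib.Zorn.GLTwo

/-!
Squares in a Sylow 2-subgroup of `G₂(q)`, `q` odd, are products of commutators.
-/

set_option autoImplicit false

namespace CfsgLib.Zorn

open Matrix

/-- Squares lie in the derived subgroup. -/
def SqComm {G : Type*} [Group G] (H : Subgroup G) : Prop := ∀ x ∈ H, x * x ∈ ⁅H, H⁆

theorem SqComm.image {G K : Type*} [Group G] [Group K] (f : G →* K) {H : Subgroup G}
    (h : ∀ x ∈ H, ∃ k ∈ ⁅H, H⁆, f (x * x) = f k) : SqComm (H.map f) := by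
  rintro _ ⟨x, hx, rfl⟩
  obtain ⟨k, hk, e⟩ := h x hx
  rw [← map_mul, e, ← Subgroup.map_commutator]
  exact Subgroup.mem_map_of_mem f hk

theorem SqComm.conj {G : Type*} [Group G] {H : Subgroup G} (h : SqComm H) (g : G) :
    SqComm (H.map (MulAut.conj g).toMonoidHom) :=
  SqComm.image _ fun x hx => ⟨x * x, h x hx, rfl⟩

variable {F : Type*} [Field F] [Fintype F]

local notation "GL2" => GL (Fin 2) F
local notation "M2" => Matrix (Fin 2) (Fin 2) F

theorem squareProp_conj {S : Subgroup GL2} (h : SquareProp S) (c : GL2) :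
    SquareProp (S.map (MulAut.conj c).toMonoidHom) := by
  rintro _ ⟨a, ha, rfl⟩
  obtain ⟨k, hk, e⟩ := h a ha
  set f : GL2 →* GL2 := (MulAut.conj c).toMonoidHom
  refine ⟨f k, ?_, ?_⟩
  · have hle : (detOne S).map f ≤ detOne (S.map f) := by
      rintro _ ⟨w, ⟨hw, hwd⟩, rfl⟩
      refine ⟨Subgroup.mem_map_of_mem f hw, ?_⟩
      show Matrix.GeneralLinearGroup.det (c * w * c⁻¹) = 1
      rw [map_mul, map_mul, map_inv, show Matrix.GeneralLinearGroup.det w = 1 from hwd, mul_one, mul_inv_cancel]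
    have := Subgroup.mem_map_of_mem f hk
    rw [Subgroup.map_commutator] at this
    exact Subgroup.commutator_mono le_rfl hle this
  · show ((c * a * c⁻¹ * (c * a * c⁻¹) : GL2) : M2) = ((c * a * c⁻¹ : GL2) : M2).det • ((c * k * c⁻¹ : GL2) : M2)
    have hd : ((c * a * c⁻¹ : GL2) : M2).det = (a : M2).det := Matrix.det_units_conj c (a : M2)
    rw [hd, show c * a * c⁻¹ * (c * a * c⁻¹) = c * (a * a) * c⁻¹ by group, Units.val_mul, Units.val_mul, e,
      Units.val_mul, Units.val_mul, Matrix.mul_smul, Matrix.smul_mul]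

theorem squareProp_sylow (hF : Odd (Fintype.card F)) (U : Sylow 2 GL2) : SquareProp (U : Subgroup GL2) := by
  haveI : Fact (Nat.Prime 2) := ⟨Nat.prime_two⟩
  obtain ⟨U0, h0⟩ : ∃ U0 : Sylow 2 GL2, SquareProp (U0 : Subgroup GL2) := by
    rcases Nat.odd_mod_four_iff.1 (Nat.odd_iff.1 hF) with h | h
    · exact squareProp_one h
    · exact squareProp_three h
  obtain ⟨c, rfl⟩ := MulAction.exists_smul_eq GL2 U0 U
  exact squareProp_conj h0 c

/-- Images in `G2` of Sylow 2-subgroups of the pairs. -/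
theorem sqComm_pair (hF : Odd (Fintype.card F)) (T : Sylow 2 ↥(eqDet F)) :
    SqComm ((T : Subgroup ↥(eqDet F)).map (pairHom F)) := by
  classical
  haveI : Fact (Nat.Prime 2) := ⟨Nat.prime_two⟩
  set p1 : ↥(eqDet F) →* GL2 := (MonoidHom.fst GL2 GL2).comp (eqDet F).subtype
  set p2 : ↥(eqDet F) →* GL2 := (MonoidHom.snd GL2 GL2).comp (eqDet F).subtype
  obtain ⟨Sa, hSa⟩ := (T.2.map p1).exists_le_sylow
  obtain ⟨Sb, hSb⟩ := (T.2.map p2).exists_le_sylow
  let K : Subgroup ↥(eqDet F) := (Sa : Subgroup GL2).comap p1 ⊓ (Sb : Subgroup GL2).comap p2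
  have hK : IsPGroup 2 K := by
    let ψ : K →* ↥(Sa : Subgroup GL2) × ↥(Sb : Subgroup GL2) :=
      { toFun := fun x => (⟨p1 x.1, x.2.1⟩, ⟨p2 x.1, x.2.2⟩)
        map_one' := rfl
        map_mul' := fun _ _ => rfl }
    have hψ : Function.Injective ψ := fun x y h => by
      refine Subtype.ext (Subtype.ext (Prod.ext ?_ ?_))
      · exact congrArg (fun q : ↥(Sa : Subgroup GL2) × ↥(Sb : Subgroup GL2) => (q.1 : GL2)) h
      · exact congrArg (fun q : ↥(Sa : Subgroup GL2) × ↥(Sb : Subgroup GL2) => (q.2 : GL2)) h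
    have hprod : IsPGroup 2 (↥(Sa : Subgroup GL2) × ↥(Sb : Subgroup GL2)) := by
      obtain ⟨i, hi⟩ := IsPGroup.iff_card.1 Sa.2
      obtain ⟨j, hj⟩ := IsPGroup.iff_card.1 Sb.2
      exact IsPGroup.of_card (n := i + j) (by rw [Nat.card_prod, hi, hj, pow_add])
    exact hprod.of_injective ψ hψ
  have hTK : K = (T : Subgroup ↥(eqDet F)) := T.3 hK fun x hx =>
    ⟨hSa (Subgroup.mem_map_of_mem p1 hx), hSb (Subgroup.mem_map_of_mem p2 hx)⟩
  obtain ⟨c, hc⟩ := MulAction.exists_smul_eq GL2 Sa Sb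
  obtain ⟨c', hc'⟩ := MulAction.exists_smul_eq GL2 Sb Sa
  have htr : ∀ (U V : Sylow 2 GL2) (c : GL2), c • U = V → ∀ s ∈ (U : Subgroup GL2),
      c * s * c⁻¹ ∈ (V : Subgroup GL2) := by
    intro U V c h s hs
    rw [← h]
    exact Subgroup.mem_map_of_mem (MulAut.conj c).toMonoidHom hs
  have hdet : ∀ c s : GL2,
      Matrix.GeneralLinearGroup.det (c * s * c⁻¹) = Matrix.GeneralLinearGroup.det s := fun c s => by
    rw [map_mul, map_mul, map_inv, mul_inv_cancel_comm]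
  have hone : ∀ w : GL2, Matrix.GeneralLinearGroup.det w = 1 → (w, (1 : GL2)) ∈ eqDet F ∧ ((1 : GL2), w) ∈ eqDet F :=
    fun w hw => ⟨show _ = _ by rw [hw, map_one], show _ = _ by rw [hw, map_one]⟩
  let TT : Subgroup (GL2 × GL2) := (T : Subgroup ↥(eqDet F)).map (eqDet F).subtype
  have hTT : ∀ a b : GL2, a ∈ (Sa : Subgroup GL2) → b ∈ (Sb : Subgroup GL2) →
      Matrix.GeneralLinearGroup.det a = Matrix.GeneralLinearGroup.det b → (a, b) ∈ TT := fun a b ha hb h =>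
    ⟨⟨(a, b), h⟩, hTK ▸ (⟨ha, hb⟩ : (⟨(a, b), h⟩ : ↥(eqDet F)) ∈ K), rfl⟩
  have hL : ⁅(Sa : Subgroup GL2), detOne (Sa : Subgroup GL2)⁆ ≤ ⁅TT, TT⁆.comap (MonoidHom.inl GL2 GL2) := by
    rw [Subgroup.commutator_le]
    intro s hs w hw
    have := Subgroup.commutator_mem_commutator (hTT s (c * s * c⁻¹) hs (htr _ _ _ hc s hs) (hdet c s).symm)
      (hTT w 1 hw.1 (one_mem _) ((hone w hw.2).1))
    rw [Subgroup.mem_comap]
    convert this using 1
    simp [commutatorElement_def, MonoidHom.inl_apply]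
  have hR : ⁅(Sb : Subgroup GL2), detOne (Sb : Subgroup GL2)⁆ ≤ ⁅TT, TT⁆.comap (MonoidHom.inr GL2 GL2) := by
    rw [Subgroup.commutator_le]
    intro s hs w hw
    have := Subgroup.commutator_mem_commutator (hTT (c' * s * c'⁻¹) s (htr _ _ _ hc' s hs) hs (hdet c' s))
      (hTT 1 w (one_mem _) hw.1 ((hone w hw.2).2))
    rw [Subgroup.mem_comap]
    convert this using 1
    simp [commutatorElement_def, MonoidHom.inr_apply]
  refine SqComm.image _ fun x hx => ?_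
  obtain ⟨ka, hka, ea⟩ := squareProp_sylow hF Sa (p1 x) (hSa (Subgroup.mem_map_of_mem p1 hx))
  obtain ⟨kb, hkb, eb⟩ := squareProp_sylow hF Sb (p2 x) (hSb (Subgroup.mem_map_of_mem p2 hx))
  have hkk : (ka, kb) ∈ ⁅TT, TT⁆ := by
    have h1 : (ka, (1 : GL2)) ∈ ⁅TT, TT⁆ := hL hka
    have h2 : ((1 : GL2), kb) ∈ ⁅TT, TT⁆ := hR hkb
    simpa using mul_mem h1 h2
  rw [← Subgroup.map_commutator] at hkk
  obtain ⟨k, hk, hke⟩ := hkk
  refine ⟨k, hk, ?_⟩
  rw [← mul_inv_eq_one, ← map_inv, ← map_mul]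
  refine Subtype.ext (pairG2_scalar _ (p1 x : M2).det ?_ ?_)
  · show ((p1 x * p1 x * (p1 k)⁻¹ : GL2) : M2) = _
    have hk1 : p1 k = ka := congrArg Prod.fst hke
    rw [hk1, Units.val_mul, ea, Matrix.smul_mul, ← Units.val_mul, mul_inv_cancel, Units.val_one]
  · show ((p2 x * p2 x * (p2 k)⁻¹ : GL2) : M2) = _
    have hk2 : p2 k = kb := congrArg Prod.snd hke
    rw [hk2, Units.val_mul, eb, Matrix.smul_mul, ← Units.val_mul, mul_inv_cancel, Units.val_one]
    congr 1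
    exact (congrArg Units.val x.2).symm

/-- The statement. -/
theorem sq_mem_commutator (hF : Odd (Fintype.card F)) (P : Sylow 2 (Cfsg.Lie.G2 F))
    (x : (P : Subgroup (Cfsg.Lie.G2 F))) : x ^ 2 ∈ commutator (P : Subgroup (Cfsg.Lie.G2 F)) := by
  classical
  haveI : Fact (Nat.Prime 2) := ⟨Nat.prime_two⟩
  have h2 : (2 : F) ≠ 0 := fun h => by
    have hc : CharP F 2 := CharTwo.of_one_ne_zero_of_two_eq_zero one_ne_zero h
    obtain ⟨k, -, hk⟩ := FiniteField.card F 2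
    rw [hk, Nat.odd_pow_iff k.ne_zero] at hF
    exact absurd hF (by decide)
  let s0 : ↥(Cfsg.Lie.G2 F) := ⟨sigma0 F, sigma0_mem⟩
  have hs0 : orderOf s0 = 2 := orderOf_eq_prime (Subtype.ext (by simp [s0, pow_two, sigma0_sq]))
    (fun h => sigma0_ne_one h2 (congrArg Subtype.val h))
  have hnt : Nontrivial ↥(P : Subgroup ↥(Cfsg.Lie.G2 F)) := by
    rw [Subgroup.nontrivial_iff_ne_bot]
    intro hbot
    have h := P.not_dvd_index
    rw [hbot, Subgroup.index_bot] at h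
    exact h (hs0 ▸ orderOf_dvd_natCard s0)
  have hZ := P.2.center_nontrivial
  obtain ⟨z0, hz0⟩ : ∃ z : Subgroup.center ↥(P : Subgroup ↥(Cfsg.Lie.G2 F)), orderOf z = 2 := by
    refine exists_prime_orderOf_dvd_card' 2 ?_
    obtain ⟨n, hn⟩ := IsPGroup.iff_card.1 (P.2.to_subgroup (Subgroup.center _))
    rcases n with - | n
    · rw [pow_zero] at hn
      exact absurd hn (ne_of_gt Finite.one_lt_card)
    · rw [hn]; exact dvd_pow_self 2 n.succ_ne_zero
  set z : ↥(Cfsg.Lie.G2 F) := z0.1.1 with hz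
  have hzo : orderOf z = 2 := by rw [hz, Subgroup.orderOf_coe, Subgroup.orderOf_coe, hz0]
  have hzz : (z : GL (Fin 8) F) * z = 1 := by
    have : z ^ 2 = 1 := hzo ▸ pow_orderOf_eq_one z
    simpa [pow_two] using congrArg Subtype.val this
  have hzne : (z : GL (Fin 8) F) ≠ 1 := fun h => by
    rw [show z = 1 from Subtype.ext h, orderOf_one] at hzo; omega
  obtain ⟨R⟩ := exists_frame z.2 hzz h2 hzne
  obtain ⟨g, hg, hgz⟩ := R.exists_conj z.2 h2 hzz
  set g' : ↥(Cfsg.Lie.G2 F) := ⟨g, hg⟩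
  have hle : (((g'⁻¹ : ↥(Cfsg.Lie.G2 F)) • P : Sylow 2 ↥(Cfsg.Lie.G2 F)) : Subgroup ↥(Cfsg.Lie.G2 F)) ≤
      (pairHom F).range := by
    rintro y hy
    rw [Sylow.smul_def, Sylow.pointwise_smul_def] at hy
    obtain ⟨a, ha, rfl⟩ := hy
    have hcz : a * z = z * a := congrArg Subtype.val (Subgroup.mem_center_iff.1 z0.2 ⟨a, ha⟩)
    have hcs : (g'⁻¹ * a * g'⁻¹⁻¹) * s0 = s0 * (g'⁻¹ * a * g'⁻¹⁻¹) := by
      have : s0 = g'⁻¹ * z * g' := Subtype.ext hgz.symm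
      rw [this, inv_inv]
      calc g'⁻¹ * a * g' * (g'⁻¹ * z * g') = g'⁻¹ * (a * z) * g' := by group
        _ = g'⁻¹ * (z * a) * g' := by rw [hcz]
        _ = _ := by group
    obtain ⟨p, hp⟩ := exists_pair h2 (g'⁻¹ * a * g'⁻¹⁻¹).2 (congrArg Subtype.val hcs)
    exact ⟨p, Subtype.ext hp⟩
  set P' := (g'⁻¹ • P).subtype hle with hP'
  set f := (pairHom F).rangeRestrict
  obtain ⟨T⟩ : Nonempty (Sylow 2 ↥(eqDet F)) := inferInstance
  obtain ⟨h, hh⟩ := MulAction.exists_smul_eq ↥(pairHom F).range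
    (T.mapSurjective (pairHom F).rangeRestrict_surjective) P'
  obtain ⟨m, rfl⟩ := (pairHom F).rangeRestrict_surjective h
  have e2 : (((g'⁻¹ : ↥(Cfsg.Lie.G2 F)) • P : Sylow 2 ↥(Cfsg.Lie.G2 F)) : Subgroup ↥(Cfsg.Lie.G2 F)) =
      ((m • T : Sylow 2 ↥(eqDet F)) : Subgroup ↥(eqDet F)).map (pairHom F) := by
    have h1 := congrArg (fun Q : Sylow 2 ↥(pairHom F).range => (Q : Subgroup ↥(pairHom F).range).map (pairHom F).range.subtype) hh
    simp only [hP', Sylow.coe_subtype, Subgroup.subgroupOf_map_subtype, inf_of_le_left hle] at h1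
    rw [← h1]
    ext y
    simp only [Sylow.smul_def, Sylow.pointwise_smul_def, Subgroup.mem_map]
    constructor
    · rintro ⟨b, ⟨d, ⟨t, ht, rfl⟩, rfl⟩, rfl⟩
      exact ⟨m * t * m⁻¹, ⟨t, ht, rfl⟩, by simp⟩
    · rintro ⟨b, ⟨t, ht, rfl⟩, rfl⟩
      exact ⟨_, ⟨_, ⟨t, ht, rfl⟩, rfl⟩, by simp⟩
  have hS := (e2 ▸ sqComm_pair hF (m • T) : SqComm _).conj g'
  have e3 : (((g'⁻¹ : ↥(Cfsg.Lie.G2 F)) • P : Sylow 2 ↥(Cfsg.Lie.G2 F)) : Subgroup ↥(Cfsg.Lie.G2 F)).map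
      (MulAut.conj g').toMonoidHom = (P : Subgroup ↥(Cfsg.Lie.G2 F)) := by
    show ((g' • g'⁻¹ • P : Sylow 2 ↥(Cfsg.Lie.G2 F)) : Subgroup ↥(Cfsg.Lie.G2 F)) = _
    rw [smul_inv_smul]
  rw [e3] at hS
  have := hS x.1 x.2
  rw [← Subgroup.map_subtype_commutator] at this
  obtain ⟨k, hk, e⟩ := this
  have : k = x ^ 2 := Subtype.ext (by rw [pow_two]; exact e)
  exact this ▸ hk

end CfsgLib.Zorn
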